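import Mathlib.Algebra.Category.ModuleCat.Basic
import Mathlib.RingTheory.Artinian.Module
import Mathlib.CategoryTheory.Category.Preorder

/-! Mittag-Leffler lifting for towers of modules with Artinian kernels. -/

set_option autoImplicit false
universe u

namespace Groth.Agent.H9.LimTensor

open CategoryTheory Opposite

variable {R : Type u} [CommRing R]

/-- transition maps of a tower. -/
noncomputable def tr (F : ℕᵒᵖ ⥤ ModuleCat.{u} R) {n m : ℕ} (h : n ≤ m) :
    F.obj (op m) →ₗ[R] F.obj (op n) :=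
  (F.map (homOfLE h).op).hom

lemma tr_tr (F : ℕᵒᵖ ⥤ ModuleCat.{u} R) {n m l : ℕ} (h : n ≤ m) (h' : m ≤ l)
    (x : F.obj (op l)) : tr F h (tr F h' x) = tr F (h.trans h') x := by
  unfold tr
  have : (homOfLE (h.trans h')).op = (homOfLE h').op ≫ (homOfLE h).op := rfl
  rw [this, F.map_comp]
  rfl

lemma tr_refl (F : ℕᵒᵖ ⥤ ModuleCat.{u} R) (n : ℕ) (x : F.obj (op n)) :
    tr F (le_refl n) x = x := by
  unfold tr
  have : (homOfLE (le_refl n)).op = 𝟙 (op n) := rfl
  rw [this, F.map_id]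
  rfl

lemma tr_nat {F G : ℕᵒᵖ ⥤ ModuleCat.{u} R} (v : F ⟶ G) {n m : ℕ} (h : n ≤ m)
    (x : F.obj (op m)) :
    (v.app (op n)).hom (tr F h x) = tr G h ((v.app (op m)).hom x) := by
  have := v.naturality (homOfLE h).op
  exact congrArg (fun t => t.hom x) this

lemma tr_eq (F : ℕᵒᵖ ⥤ ModuleCat.{u} R) {n m : ℕ} (f : op m ⟶ op n) (h : n ≤ m) :
    (F.map f).hom = tr F h := by
  obtain rfl : f = (homOfLE h).op := Subsingleton.elim _ _
  rfl

section Lift

variable {F G : ℕᵒᵖ ⥤ ModuleCat.{u} R} (v : F ⟶ G) (c : ∀ n : ℕ, G.obj (op n))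

/-- images of the solution sets. -/
def Img {n m : ℕ} (h : n ≤ m) : Set (F.obj (op n)) :=
  {x | ∃ y : F.obj (op m), (v.app (op m)).hom y = c m ∧ tr F h y = x}

variable (hc : ∀ (n m : ℕ) (h : n ≤ m), tr G h (c m) = c n)

include hc in
lemma Img_anti {n m m' : ℕ} (h : n ≤ m) (h' : m ≤ m') : Img v c (h.trans h') ⊆ Img v c h := by
  rintro x ⟨y, hy, rfl⟩
  refine ⟨tr F h' y, ?_, tr_tr F h h' y⟩
  rw [tr_nat, hy, hc]

/-- the images of the kernels. -/
noncomputable def I {n m : ℕ} (h : n ≤ m) : Submodule R (F.obj (op n)) :=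
  Submodule.map (tr F h) (LinearMap.ker (v.app (op m)).hom)

lemma I_le {n m : ℕ} (h : n ≤ m) : I v h ≤ LinearMap.ker (v.app (op n)).hom := by
  rintro _ ⟨y, hy, rfl⟩
  have hy0 : (v.app (op m)).hom y = 0 := hy
  refine LinearMap.mem_ker.2 ?_
  rw [tr_nat, hy0, map_zero]

lemma I_anti {n m m' : ℕ} (h : n ≤ m) (h' : m ≤ m') : I v (h.trans h') ≤ I v h := by
  rintro _ ⟨y, hy, rfl⟩
  have hy0 : (v.app (op m')).hom y = 0 := hy
  refine ⟨tr F h' y, ?_, tr_tr F h h' y⟩
  change (v.app (op m)).hom (tr F h' y) = 0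
  rw [tr_nat, hy0, map_zero]

variable (hA : ∀ n, IsArtinian R (LinearMap.ker (v.app (op n)).hom))

include hA in
lemma exists_I_stable (n : ℕ) : ∃ k₀ : ℕ, ∀ k, k₀ ≤ k →
    I v (Nat.le_add_right n k₀) = I v (Nat.le_add_right n k) := by
  have := hA n
  let A := LinearMap.ker (v.app (op n)).hom
  let f : ℕ →o (Submodule R A)ᵒᵈ :=
    ⟨fun k => OrderDual.toDual (Submodule.comap A.subtype (I v (Nat.le_add_right n k))), by
      intro k k' hk
      change Submodule.comap A.subtype (I v (Nat.le_add_right n k')) ≤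
        Submodule.comap A.subtype (I v (Nat.le_add_right n k))
      refine Submodule.comap_mono ?_
      exact I_anti v (Nat.le_add_right n k) (Nat.add_le_add_left hk n)⟩
  obtain ⟨k₀, hk₀⟩ := IsArtinian.monotone_stabilizes f
  refine ⟨k₀, fun k hk => ?_⟩
  have h1 := hk₀ k hk
  have h2 : Submodule.comap A.subtype (I v (Nat.le_add_right n k₀)) =
      Submodule.comap A.subtype (I v (Nat.le_add_right n k)) := h1
  have h3 := congrArg (Submodule.map A.subtype) h2
  rw [Submodule.map_comap_subtype, Submodule.map_comap_subtype,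
    inf_eq_right.2 (I_le v _), inf_eq_right.2 (I_le v _)] at h3
  exact h3

variable (hr : ∀ n, c n ∈ LinearMap.range (v.app (op n)).hom)

include hc hA hr in
lemma exists_Img_stable (n : ℕ) : ∃ N : ℕ, ∃ hN : n ≤ N, ∀ (m : ℕ) (hm : n ≤ m),
    Img v c hN ⊆ Img v c hm := by
  obtain ⟨k₀, hk₀⟩ := exists_I_stable v hA n
  refine ⟨n + k₀, Nat.le_add_right n k₀, fun m hm => ?_⟩
  rcases le_total m (n + k₀) with hle | hle
  · exact Img_anti v c hc hm hle
  · obtain ⟨k, rfl⟩ := Nat.exists_eq_add_of_le hm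
    have hk : k₀ ≤ k := by omega
    rintro x ⟨y, hy, rfl⟩
    obtain ⟨y', hy'⟩ := hr (n + k)
    have hy'' : (v.app (op (n + k₀))).hom (tr F hle y') = c (n + k₀) := by
      rw [tr_nat, hy', hc]
    have hmem : tr F (Nat.le_add_right n k₀) (y - tr F hle y') ∈ I v (Nat.le_add_right n k₀) :=
      ⟨_, by
        change (v.app (op (n + k₀))).hom (y - tr F hle y') = 0
        rw [map_sub, hy, hy'', sub_self], rfl⟩
    rw [hk₀ k hk] at hmem
    obtain ⟨a, ha, hax⟩ := hmem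
    have ha : (v.app (op (n + k))).hom a = 0 := ha
    refine ⟨y' + a, by rw [map_add, hy', ha, add_zero], ?_⟩
    rw [map_add, hax, map_sub, tr_tr]
    abel

/-- the eventual solution sets. -/
def E' (n : ℕ) : Set (F.obj (op n)) := {x | ∀ (m : ℕ) (h : n ≤ m), x ∈ Img v c h}

include hc hA hr in
lemma exists_mem_E' (n : ℕ) : ∃ N : ℕ, ∃ hN : n ≤ N, ∀ y : F.obj (op N),
    (v.app (op N)).hom y = c N → tr F hN y ∈ E' v c n := by
  obtain ⟨N, hN, hst⟩ := exists_Img_stable v c hc hA hr n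
  exact ⟨N, hN, fun y hy m hm => hst m hm ⟨y, hy, rfl⟩⟩

include hc hA hr in
lemma exists_succ (n : ℕ) (x : F.obj (op n)) (hx : x ∈ E' v c n) :
    ∃ x' : F.obj (op (n + 1)), x' ∈ E' v c (n + 1) ∧ tr F (Nat.le_succ n) x' = x := by
  obtain ⟨N, hN, hmem⟩ := exists_mem_E' v c hc hA hr (n + 1)
  obtain ⟨y, hy, hyx⟩ := hx N ((Nat.le_succ n).trans hN)
  exact ⟨tr F hN y, hmem y hy, by rw [tr_tr]; exact hyx⟩

include hc hA hr in
/-- **Mittag-Leffler lifting.** -/
theorem exists_section_lift :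
    ∃ b : ∀ n : ℕ, F.obj (op n), (∀ (n m : ℕ) (h : n ≤ m), tr F h (b m) = b n) ∧
      ∀ n, (v.app (op n)).hom (b n) = c n := by
  obtain ⟨N, hN, hmem⟩ := exists_mem_E' v c hc hA hr 0
  obtain ⟨y₀, hy₀⟩ := hr N
  let b : ∀ n : ℕ, {x : F.obj (op n) // x ∈ E' v c n} := fun n =>
    Nat.rec ⟨tr F hN y₀, hmem y₀ hy₀⟩
      (fun n x => ⟨(exists_succ v c hc hA hr n x.1 x.2).choose,
        (exists_succ v c hc hA hr n x.1 x.2).choose_spec.1⟩) n
  have hb : ∀ n, tr F (Nat.le_succ n) (b (n + 1)).1 = (b n).1 := fun n =>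
    (exists_succ v c hc hA hr n (b n).1 (b n).2).choose_spec.2
  have hb' : ∀ (n k : ℕ), tr F (Nat.le_add_right n k) (b (n + k)).1 = (b n).1 := by
    intro n k
    induction k with
    | zero => exact tr_refl F n _
    | succ k ih =>
      rw [← ih, ← hb (n + k), tr_tr]
      rfl
  refine ⟨fun n => (b n).1, fun n m h => ?_, fun n => ?_⟩
  · obtain ⟨k, rfl⟩ := Nat.exists_eq_add_of_le h
    exact hb' n k
  · obtain ⟨y, hy, hyx⟩ := (b n).2 n le_rfl
    rw [tr_refl] at hyx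
    change (v.app (op n)).hom (b n).1 = c n
    rw [← hyx, hy]

end Lift

end Groth.Agent.H9.LimTensor
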