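import Groth.Agent.H9.LimTensor.ML
import Mathlib.Algebra.Category.ModuleCat.Monoidal.Basic
import Mathlib.Algebra.Category.ModuleCat.Limits
import Mathlib.Algebra.Module.FinitePresentation
import Mathlib.LinearAlgebra.TensorProduct.Pi
import Mathlib.LinearAlgebra.TensorProduct.RightExactness
import Mathlib.RingTheory.FiniteLength
import Mathlib.CategoryTheory.Limits.Preserves.Limits
import Mathlib.CategoryTheory.Limits.Types.Limits
import Mathlib.Algebra.Category.ModuleCat.Abelian

/-! `lim` commutes with `- ⊗ N` for towers of finite length modules and finitely presented `N`. -/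

set_option autoImplicit false
universe u

namespace Groth.Agent.H9.LimTensor

open CategoryTheory CategoryTheory.Limits MonoidalCategory Opposite TensorProduct

variable {R : Type u} [CommRing R] (M : ℕᵒᵖ ⥤ ModuleCat.{u} R)

/-- compatible families. -/
def IsSec (F : ℕᵒᵖ ⥤ ModuleCat.{u} R) (s : ∀ n : ℕ, F.obj (op n)) : Prop :=
  ∀ (n m : ℕ) (h : n ≤ m), tr F h (s m) = s n

/-- the projections of the limit. -/
noncomputable def p (n : ℕ) : (limit M : ModuleCat.{u} R) →ₗ[R] M.obj (op n) :=
  (limit.π M (op n)).hom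

lemma tr_p {n m : ℕ} (h : n ≤ m) (x : (limit M : ModuleCat.{u} R)) :
    tr M h (p M m x) = p M n x := by
  have := limit.w M (homOfLE h).op
  exact congrArg (fun t => t.hom x) this

lemma p_ext (x y : (limit M : ModuleCat.{u} R)) (h : ∀ n, p M n x = p M n y) : x = y := by
  refine Concrete.limit_ext M x y (fun j => ?_)
  induction j using Opposite.rec with | _ n => exact h n

lemma exists_of_isSec (s : ∀ n : ℕ, M.obj (op n)) (hs : IsSec M s) :
    ∃ x : (limit M : ModuleCat.{u} R), ∀ n, p M n x = s n := by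
  have hl : IsLimit ((forget (ModuleCat.{u} R)).mapCone (limit.cone M)) :=
    isLimitOfPreserves _ (limit.isLimit M)
  have key := (Types.isLimit_iff _).1 ⟨hl⟩ (fun j => s j.unop) (by
    intro j j' f
    induction j using Opposite.rec with | _ m => ?_
    induction j' using Opposite.rec with | _ n => ?_
    have hnm : n ≤ m := leOfHom f.unop
    change (M.map f).hom (s m) = s n
    rw [tr_eq M f hnm]
    exact hs n m hnm)
  obtain ⟨x, hx, -⟩ := key
  exact ⟨x, fun n => hx (op n)⟩

section MX

variable (X : Type u) [AddCommGroup X] [Module R X]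

/-- the tower `M_n ⊗ X`. -/
noncomputable abbrev MX : ℕᵒᵖ ⥤ ModuleCat.{u} R := M ⋙ tensorRight (ModuleCat.of R X)

lemma tr_MX {n m : ℕ} (h : n ≤ m) (z : M.obj (op m) ⊗[R] X) :
    tr (MX M X) h z = LinearMap.rTensor X (tr M h) z := rfl

variable {X} {Y : Type u} [AddCommGroup Y] [Module R Y]

/-- the map of towers induced by a linear map. -/
noncomputable def MXmap (g : X →ₗ[R] Y) : MX M X ⟶ MX M Y :=
  Functor.whiskerLeft M ((tensoringRight (ModuleCat.{u} R)).map (ModuleCat.ofHom g))

lemma MXmap_app (g : X →ₗ[R] Y) (n : ℕ) (z : M.obj (op n) ⊗[R] X) :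
    ((MXmap M g).app (op n)).hom z = LinearMap.lTensor (M.obj (op n)) g z := rfl

/-- the comparison maps. -/
noncomputable def pX (X : Type u) [AddCommGroup X] [Module R X] (n : ℕ) :
    (limit M : ModuleCat.{u} R) ⊗[R] X →ₗ[R] M.obj (op n) ⊗[R] X :=
  LinearMap.rTensor X (p M n)

lemma tr_pX (X : Type u) [AddCommGroup X] [Module R X] {n m : ℕ} (h : n ≤ m)
    (z : (limit M : ModuleCat.{u} R) ⊗[R] X) :
    tr (MX M X) h (pX M X m z) = pX M X n z := by
  rw [tr_MX]
  unfold pX
  rw [← LinearMap.comp_apply, ← LinearMap.rTensor_comp]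
  congr 2
  ext x
  exact tr_p M h x

lemma pX_lTensor (g : X →ₗ[R] Y) (n : ℕ) (z : (limit M : ModuleCat.{u} R) ⊗[R] X) :
    pX M Y n (LinearMap.lTensor _ g z) = LinearMap.lTensor _ g (pX M X n z) := by
  unfold pX
  rw [← LinearMap.comp_apply, ← LinearMap.comp_apply, LinearMap.rTensor_comp_lTensor,
    LinearMap.lTensor_comp_rTensor]

end MX

section Free

variable (c : ℕ)

/-- naturality of `piScalarRight`. -/
lemma piScalarRight_rTensor {A B : Type u} [AddCommGroup A] [Module R A] [AddCommGroup B]
    [Module R B] (g : A →ₗ[R] B) (z : A ⊗[R] (Fin c → R)) (i : Fin c) :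
    TensorProduct.piScalarRight R R B (Fin c) (LinearMap.rTensor _ g z) i =
      g (TensorProduct.piScalarRight R R A (Fin c) z i) := by
  induction z using TensorProduct.induction_on with
  | zero => simp
  | tmul a f =>
    simp only [LinearMap.rTensor_tmul, TensorProduct.piScalarRight_apply,
      TensorProduct.piScalarRightHom_tmul, map_smul]
  | add z₁ z₂ h₁ h₂ => simp only [map_add, Pi.add_apply, h₁, h₂]

lemma pX_free_injective (z : (limit M : ModuleCat.{u} R) ⊗[R] (Fin c → R))
    (hz : ∀ n, pX M (Fin c → R) n z = 0) : z = 0 := by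
  apply (TensorProduct.piScalarRight R R _ (Fin c)).injective
  rw [map_zero]
  funext i
  refine p_ext M _ _ (fun n => ?_)
  have := piScalarRight_rTensor c (p M n) z i
  rw [← this]
  change TensorProduct.piScalarRight R R _ (Fin c) (pX M (Fin c → R) n z) i = _
  rw [hz n]
  simp

lemma pX_free_surjective (w : ∀ n : ℕ, M.obj (op n) ⊗[R] (Fin c → R))
    (hw : IsSec (MX M (Fin c → R)) w) :
    ∃ z : (limit M : ModuleCat.{u} R) ⊗[R] (Fin c → R), ∀ n, pX M (Fin c → R) n z = w n := by
  have hsec : ∀ i : Fin c, IsSec M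
      (fun n => TensorProduct.piScalarRight R R (M.obj (op n)) (Fin c) (w n) i) := by
    intro i n m h
    have h1 := hw n m h
    rw [tr_MX] at h1
    change tr M h (TensorProduct.piScalarRight R R (M.obj (op m)) (Fin c) (w m) i) =
      TensorProduct.piScalarRight R R (M.obj (op n)) (Fin c) (w n) i
    rw [← piScalarRight_rTensor, h1]
  choose ℓ hℓ using fun i => exists_of_isSec M _ (hsec i)
  refine ⟨(TensorProduct.piScalarRight R R _ (Fin c)).symm ℓ, fun n => ?_⟩
  apply (TensorProduct.piScalarRight R R _ (Fin c)).injective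
  funext i
  change TensorProduct.piScalarRight R R _ (Fin c)
    (LinearMap.rTensor _ (p M n) ((TensorProduct.piScalarRight R R _ (Fin c)).symm ℓ)) i = _
  rw [piScalarRight_rTensor, LinearEquiv.apply_symm_apply]
  exact hℓ i n

end Free

section Key

variable (hM : ∀ n : ℕ, IsFiniteLength R (M.obj (op n)))

include hM in
lemma isArtinian_free (c n : ℕ) : IsArtinian R (M.obj (op n) ⊗[R] (Fin c → R)) := by
  have : IsArtinian R (M.obj (op n)) := (isFiniteLength_iff_isNoetherian_isArtinian.1 (hM n)).2
  exact isArtinian_of_linearEquiv (TensorProduct.piScalarRight R R (M.obj (op n)) (Fin c)).symm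

include hM in
/-- lifting sections along a map from a finite free module. -/
lemma exists_lift_free {c : ℕ} {Y : Type u} [AddCommGroup Y] [Module R Y]
    (g : (Fin c → R) →ₗ[R] Y) (w : ∀ n : ℕ, M.obj (op n) ⊗[R] Y) (hw : IsSec (MX M Y) w)
    (hr : ∀ n, w n ∈ LinearMap.range (LinearMap.lTensor (M.obj (op n)) g)) :
    ∃ w' : ∀ n : ℕ, M.obj (op n) ⊗[R] (Fin c → R), IsSec (MX M (Fin c → R)) w' ∧
      ∀ n, LinearMap.lTensor (M.obj (op n)) g (w' n) = w n := by
  refine exists_section_lift (MXmap M g) w hw (fun n => ?_) hr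
  have h1 : IsArtinian R ((MX M (Fin c → R)).obj (op n)) := isArtinian_free M hM c n
  exact isArtinian_submodule' _

include hM in
theorem key (N : Type u) [AddCommGroup N] [Module R N] [Module.FinitePresentation R N] :
    (∀ z : (limit M : ModuleCat.{u} R) ⊗[R] N, (∀ n, pX M N n z = 0) → z = 0) ∧
    (∀ w : ∀ n : ℕ, M.obj (op n) ⊗[R] N, IsSec (MX M N) w →
      ∃ z : (limit M : ModuleCat.{u} R) ⊗[R] N, ∀ n, pX M N n z = w n) := by
  obtain ⟨b, a, π, α, hπ, hex⟩ := Module.FinitePresentation.exists_fin' R N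
  constructor
  · intro z hz
    obtain ⟨z₂, rfl⟩ := LinearMap.lTensor_surjective (limit M : ModuleCat.{u} R) hπ z
    -- the section of `M ⊗ R^b`
    have hw₂ : IsSec (MX M (Fin b → R)) (fun n => pX M (Fin b → R) n z₂) :=
      fun n m h => tr_pX M _ h z₂
    have hr : ∀ n, pX M (Fin b → R) n z₂ ∈
        LinearMap.range (LinearMap.lTensor (M.obj (op n)) α) := by
      intro n
      have hexn := lTensor_exact (M.obj (op n)) hex hπ
      rw [← (LinearMap.exact_iff.1 hexn), LinearMap.mem_ker, ← pX_lTensor]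
      exact hz n
    obtain ⟨w₁, hw₁, hw₁'⟩ := exists_lift_free M hM α _ hw₂ hr
    obtain ⟨z₁, hz₁⟩ := pX_free_surjective M a w₁ hw₁
    have h2 : LinearMap.lTensor _ α z₁ = z₂ := by
      rw [← sub_eq_zero]
      apply pX_free_injective M b
      intro n
      rw [map_sub, pX_lTensor, hz₁, hw₁', sub_self]
    rw [← h2, ← LinearMap.comp_apply, ← LinearMap.lTensor_comp]
    have : π ∘ₗ α = 0 := by
      ext x
      exact (hex _).2 ⟨_, rfl⟩
    rw [this, LinearMap.lTensor_zero, LinearMap.zero_apply]
  · intro w hw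
    have hr : ∀ n, w n ∈ LinearMap.range (LinearMap.lTensor (M.obj (op n)) π) := fun n =>
      LinearMap.lTensor_surjective (M.obj (op n)) hπ (w n)
    obtain ⟨w₂, hw₂, hw₂'⟩ := exists_lift_free M hM π w hw hr
    obtain ⟨z₂, hz₂⟩ := pX_free_surjective M b w₂ hw₂
    refine ⟨LinearMap.lTensor _ π z₂, fun n => ?_⟩
    rw [pX_lTensor, hz₂, hw₂']

end Key

/-- **`lim` commutes with `- ⊗ N`** for towers of finite length modules and finitely
presented `N`. -/
theorem isIso_limit_post (hM : ∀ n : ℕᵒᵖ, IsFiniteLength R (M.obj n))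
    (N : Type u) [AddCommGroup N] [Module R N] [Module.FinitePresentation R N] :
    IsIso (limit.post M (tensorRight (ModuleCat.of R N))) := by
  have : PreservesLimit M (tensorRight (ModuleCat.of R N)) := by
    refine preservesLimit_of_preserves_limit_cone (limit.isLimit M) ?_
    refine isLimitOfReflects (forget (ModuleCat.{u} R)) ?_
    refine ((Types.isLimit_iff _).2 ?_).some
    intro s hs
    let w : ∀ n : ℕ, M.obj (op n) ⊗[R] N := fun n => s (op n)
    have hw : IsSec (MX M N) w := fun n m h => hs (homOfLE h).op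
    obtain ⟨hinj, hsurj⟩ := key M (fun n => hM (op n)) N
    obtain ⟨z, hz⟩ := hsurj w hw
    refine ⟨z, fun j => ?_, fun z' hz' => ?_⟩
    · induction j using Opposite.rec with | _ n => exact hz n
    · let z'' : (limit M : ModuleCat.{u} R) ⊗[R] N := z'
      have h0 : z'' - z = 0 := hinj _ (fun n => by
        rw [map_sub, hz n, sub_eq_zero]
        exact hz' (op n))
      have h1 : z'' = z := sub_eq_zero.1 h0
      exact h1
  infer_instance

end Groth.Agent.H9.LimTensor
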